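import Groth.Agent.Lib.TFOne27.End
import Groth.Agent.Lib.CurveCoh17.Twist
import Groth.Agent.Lib.Cyc26.Stalk
import Groth.Agent.Lib.TensorMod.IdealMod
import Groth.Agent.Lib.SmoothReg17.Basic

/-!
# Endomorphisms of ideal sheaves on geometrically integral proper schemes are scalars
-/

set_option autoImplicit false
set_option linter.style.haveILetI false
set_option backward.isDefEq.respectTransparency false
set_option backward.isDefEq.respectTransparency.types false

universe u

open CategoryTheory CategoryTheory.Limits AlgebraicGeometry TopologicalSpace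

noncomputable section

namespace Groth.Agent.NonPure16

open Groth.Agent Groth.Agent.M1 Groth.Agent.CurveCoh17 Groth.Agent.TFOne27

variable {k : Type u} [Field k] {X : Scheme.{u}} [X.Over (Spec (CommRingCat.of k))]

/-- Smooth and geometrically irreducible gives geometrically integral. -/
theorem geometricallyIntegral (f : X ⟶ Spec (CommRingCat.of k)) [Smooth f] [GeometricallyIrreducible f] :
    GeometricallyIntegral f := by
  haveI : GeometricallyReduced f := ⟨fun K _ y Z fst snd h => by
    haveI : Smooth snd := MorphismProperty.of_isPullback h inferInstance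
    haveI := fun z : Z => SmoothReg17.isDomain_stalk snd z
    exact isReduced_of_isReduced_stalk Z⟩
  exact GeometricallyIntegral.of_geometricallyReduced_of_geometricallyIrreducible f

theorem isCoh_and_torsionFree [IsNoetherian X] [IsIntegral X] (W : X.IdealSheafData) :
    Coh.IsCoh (ClSub.idealMod W) ∧ TorSh.IsTorsionFree (ClSub.idealMod W) := by
  refine ⟨CurveCoh17.isCoh_idealMod W, fun x => ?_⟩
  haveI : Mono (ClSub.idealModι W) := (M2.shortExact_idealMod (I := W)).mono_f
  let e : X.presheaf.stalk x ≃ₗ[X.presheaf.stalk x] (Coh.structureModule X).presheaf.stalk x :=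
    LinearEquiv.ofBijective (LinearMap.toSpanSingleton _ _ _) (Cyc26.structureModule_stalk_bijective x)
  let ψ := e.symm.toLinearMap.comp (stalkLin (ClSub.idealModι W) x)
  exact Function.Injective.moduleIsTorsionFree ψ
    (e.symm.injective.comp (TFOne27.injective_stalkLin (ClSub.idealModι W) x)) fun r a => map_smul ψ r a

/-- At the generic point a nonzero ideal is the unit ideal. -/
def genericIso [IsIntegral X] (W : X.IdealSheafData) (hW : genericPoint X ∉ (W.support : Set X)) :
    (ClSub.idealMod W).presheaf.stalk (genericPoint X) ≃ₗ[X.presheaf.stalk (genericPoint X)]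
      X.presheaf.stalk (genericPoint X) :=
  haveI : Mono (ClSub.idealModι W) := (M2.shortExact_idealMod (I := W)).mono_f
  (LinearEquiv.ofBijective (stalkLin (ClSub.idealModι W) (genericPoint X))
    ⟨TFOne27.injective_stalkLin _ _, fun a =>
      (M1.exact_iff_stalk_eq_zero _).1 (M2.shortExact_idealMod (I := W)).exact _ a
        (M1.eq_zero_stalk_push W.subschemeι _ (by rwa [Scheme.IdealSheafData.range_subschemeι]) _)⟩).trans
    (LinearEquiv.ofBijective (LinearMap.toSpanSingleton _ _ _)
      (Cyc26.structureModule_stalk_bijective (genericPoint X))).symm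

variable [IsProper (X ↘ Spec (CommRingCat.of k))] [IsIntegral X]

theorem finite_and_scalar (hgi : GeometricallyIntegral (X ↘ Spec (CommRingCat.of k))) (W : X.IdealSheafData)
    (hW : genericPoint X ∉ (W.support : Set X)) :
    Module.Finite k (ClSub.idealMod W ⟶ ClSub.idealMod W) ∧
      ∀ φ : ClSub.idealMod W ⟶ ClSub.idealMod W, ∃ c : k, φ = c • 𝟙 _ := by
  haveI : IsLocallyNoetherian X := LocallyOfFiniteType.isLocallyNoetherian (X ↘ Spec (CommRingCat.of k))
  haveI : CompactSpace X := QuasiCompact.compactSpace_of_compactSpace (X ↘ Spec (CommRingCat.of k))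
  haveI : IsNoetherian X := {}
  obtain ⟨hcoh, htf⟩ := isCoh_and_torsionFree W
  let M := ClSub.idealMod W
  refine ⟨?_, fun φ => ?_⟩
  · let q := X ↘ Spec (CommRingCat.of k)
    let H : X.Modules := M2.homMod M M
    letI : Module k Γ(H, ⊤) := Module.compHom _ (NegTwist18.base q)
    haveI : Module.Finite k Γ(H, ⊤) := NegTwist18.finite_sections q (HomShH7.isCoh_homMod hcoh hcoh)
    let L : (M ⟶ M) →ₗ[k] Γ(H, ⊤) :=
      { toFun := fun e => HomShH7.secOfHom (M := M) (N := M) e ⊤
        map_add' := fun a b => HomShH7.hom_sec_ext _ _ fun V hV s => rfl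
        map_smul' := fun c e => HomShH7.hom_sec_ext _ _ fun V hV s => by
          show (Formal.smulMod k M c ≫ e).app V s = _
          rw [← (FormalH7.smulMod_naturality e c).symm, Scheme.Modules.Hom.comp_app,
            CategoryTheory.comp_apply, FormalH7.smulMod_app]
          rfl }
    refine Module.Finite.of_injective L fun a b h => ?_
    refine Scheme.Modules.hom_ext _ _ fun U => ?_
    ext m
    exact congr(HomShH7.ev (M := M) (N := M) $h (le_top : U ≤ ⊤) m)
  · let η := genericPoint X
    let e := genericIso W hW
    obtain ⟨P, hP, hP0⟩ := TFOne27.finite_end (k := k) hcoh φ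
    have hcomp : (evalAt e).comp (scalEnd k M) = VB17.scal k η := RingHom.ext (evalAt_scalEnd e)
    haveI := hgi
    obtain ⟨c, hc⟩ := mem_range_functionField (X ↘ Spec (CommRingCat.of k)) (evalAt e φ)
      ⟨P, hP, by
        show Polynomial.eval₂ (VB17.scal k η) (evalAt e φ) P = 0
        rw [← hcomp, ← Polynomial.hom_eval₂, hP0, map_zero]⟩
    have hc' : VB17.scal k η c = evalAt e φ := hc
    refine ⟨c, ?_⟩
    rw [KLin.smul_id M c, ← sub_eq_zero]
    refine TFOne27.hom_eq_zero hcoh htf _ fun z hz a => ?_
    obtain rfl : z = η := by rw [genericPoints_eq_singleton] at hz; exact hz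
    rw [stalkLin_sub, VB17.stalkLin_smulMod, evalAt_spec e φ, ← hc']
    exact sub_self _

/-- One-dimensionality. -/
theorem finrank_end (hgi : GeometricallyIntegral (X ↘ Spec (CommRingCat.of k))) (W : X.IdealSheafData)
    (hW : genericPoint X ∉ (W.support : Set X)) :
    Module.finrank k (ClSub.idealMod W ⟶ ClSub.idealMod W) = 1 := by
  have h1 : (𝟙 (ClSub.idealMod W)) ≠ 0 := fun h => by
    have h' : stalkLin (𝟙 (ClSub.idealMod W)) (genericPoint X) ((genericIso W hW).symm 1) = 0 := by
      rw [h, TFOne27.stalkLin_zero]
    have h'' : stalkLin (𝟙 (ClSub.idealMod W)) (genericPoint X) ((genericIso W hW).symm 1) =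
        (genericIso W hW).symm 1 := by
      show (stalkAb _).map (𝟙 _) _ = _
      rw [CategoryTheory.Functor.map_id]
      rfl
    exact one_ne_zero ((genericIso W hW).symm.injective ((h''.symm.trans h').trans (map_zero _).symm))
  refine finrank_eq_one _ h1 fun φ => ?_
  obtain ⟨c, hc⟩ := (finite_and_scalar hgi W hW).2 φ
  exact ⟨c, hc.symm⟩

end Groth.Agent.NonPure16
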